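import Groth.Agent.H32.QCBC.Main
import Groth.Agent.H9.FPres_SPAN
import Groth.Agent.H96.FPres_Core

/-! helper32: a morphism of quasi-coherent modules which is surjective on sections over a finite
covering family of affine objects is an epimorphism. -/

set_option autoImplicit false
set_option backward.isDefEq.respectTransparency false
universe u
open CategoryTheory Opposite Limits AlgebraicGeometry AlgSp

namespace Groth.Agent.H32.FP

open Groth.Agent.H32.QCBC

variable {S : Scheme.{u}} (X : AlgSp.Sp S)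

theorem surjective_over {A B : AlgSp.ModEt X} [B.IsQuasicoherent] (φ : A ⟶ B)
    {Z E : EtOver X} (w : Z ⟶ E) (hE : IsAffine E.obj.left.left) (hZ : IsAffine Z.obj.left.left)
    (h : Function.Surjective (φ.val.app (op E)).hom) :
    Function.Surjective (φ.val.app (op Z)).hom := by
  let φZ : A.val.obj (op Z) →ₗ[(AlgSp.OEt X).obj.obj (op Z)] B.val.obj (op Z) :=
    { toFun := fun m => (φ.val.app (op Z)).hom m
      map_add' := fun x y => map_add (φ.val.app (op Z)).hom x y
      map_smul' := fun r m => map_smul (φ.val.app (op Z)).hom r m }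
  have hspan := Groth.Agent.H9.FPres.span_range_eq_top_of_isBC (AlgSp.OEt X).obj B.val w
    (isBC_modEt X B w hE hZ)
  have hle : (⊤ : Submodule ((AlgSp.OEt X).obj.obj (op Z)) (B.val.obj (op Z))) ≤
      LinearMap.range φZ := by
    refine le_trans hspan.symm.le (Submodule.span_le.2 ?_)
    rintro _ ⟨y, rfl⟩
    obtain ⟨x, rfl⟩ := h y
    exact ⟨A.val.map w.op x, PresheafOfModules.naturality_apply φ.val w.op x⟩
  intro t
  obtain ⟨x, hx⟩ := hle (Submodule.mem_top (x := t))
  exact ⟨x, hx⟩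

theorem epi_of_surjective_on_cover {A B : AlgSp.ModEt X} [B.IsQuasicoherent] (φ : A ⟶ B)
    {r : ℕ} (E : Fin r → EtOver X) (hE : ∀ j, IsAffine (E j).obj.left.left)
    (hcov : ∀ V : AlgSp.EtOver X, ∃ T ∈ AlgSp.etTop X V, ∀ ⦃V' : AlgSp.EtOver X⦄ (f : V' ⟶ V),
      T f → ∃ (Z : AlgSp.EtOver X) (a : V' ⟶ Z) (b : Z ⟶ V), a ≫ b = f ∧
        IsAffine Z.obj.left.left ∧ ∃ j : Fin r, Nonempty (Z ⟶ E j))
    (hsurj : ∀ j, Function.Surjective (φ.val.app (op (E j))).hom) : Epi φ := by
  apply Groth.Agent.H96.FPres_Core.epi_of_locally_surjective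
  intro V t
  obtain ⟨T, hT, hT'⟩ := hcov V
  refine ⟨T, hT, fun V' f hf => ?_⟩
  obtain ⟨Z, a, b, hab, hZ, j, ⟨w⟩⟩ := hT' f hf
  have hZsurj := surjective_over X φ w (hE j) hZ (hsurj j)
  obtain ⟨x, hx⟩ := hZsurj (B.val.map b.op t)
  refine ⟨A.val.map a.op x, ?_⟩
  have nat := PresheafOfModules.naturality_apply φ.val a.op x
  refine nat.trans ?_
  have hx' : (φ.val.app (op Z)) x = B.val.map b.op t := hx
  rw [hx', ← hab]
  exact (M_map_comp (AlgSp.OEt X).obj B.val b a t).symm

end Groth.Agent.H32.FP
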