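import Groth.Agent.H32.QCBC.Main
import Groth.Agent.H32.QCBC.BCConv
import Groth.Agent.H9.FPres_SPAN
import Groth.Agent.H9.FPres_FLATKER

/-! helper32: generators and relations of `M(E)` restrict to generators and relations of `M(V)`
for affine `V ⟶ E` (quasi-coherent `M`, abstract affine site). -/

set_option autoImplicit false
universe v₁ u₁
open CategoryTheory Opposite Limits

namespace Groth.Agent.H32.FP2

open Groth.Agent.H32.QCBC

section Main
variable {C : Type u₁} [Category.{v₁} C] {J : GrothendieckTopology C}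
  (O : Sheaf J CommRingCat.{max v₁ u₁})
  [J.HasSheafCompose (forget₂ CommRingCat.{max v₁ u₁} RingCat.{max v₁ u₁})]
  [∀ X, HasWeakSheafify (J.over X) AddCommGrpCat.{max v₁ u₁}]
  [∀ X, (J.over X).WEqualsLocallyBijective AddCommGrpCat.{max v₁ u₁}]
  {Aff : C → Prop}

/-- generators of `M(E)` restrict to generators of `M(V)`. -/
theorem span_res_eq_top (h : AffSite J O.obj Aff)
    (M : SheafOfModules.{max v₁ u₁}
      ((sheafCompose J (forget₂ CommRingCat.{max v₁ u₁} RingCat.{max v₁ u₁})).obj O))
    {E V : C} (g : V ⟶ E) (hE : Aff E) (hV : Aff V) (hBC : IsBC O.obj M.val g) {n : ℕ}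
    (s : Fin n → M.val.obj (op E))
    (hs : Submodule.span (O.obj.obj (op E)) (Set.range s) = ⊤) :
    Submodule.span (O.obj.obj (op V)) (Set.range fun i => res O.obj M.val g (s i)) = ⊤ := by
  have h1 := Groth.Agent.H9.FPres.span_range_eq_top_of_isBC O.obj M.val g
    hBC
  rw [eq_top_iff]
  refine le_trans h1.symm.le (Submodule.span_le.2 ?_)
  rintro _ ⟨t, rfl⟩
  change res O.obj M.val g t ∈ _
  have ht : t ∈ Submodule.span (O.obj.obj (op E)) (Set.range s) := by rw [hs]; trivial
  refine Submodule.span_induction (p := fun t _ => res O.obj M.val g t ∈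
    Submodule.span (O.obj.obj (op V)) (Set.range fun i => res O.obj M.val g (s i)))
    ?_ ?_ ?_ ?_ ht
  · rintro _ ⟨i, rfl⟩
    exact Submodule.subset_span ⟨i, rfl⟩
  · rw [map_zero]; exact Submodule.zero_mem _
  · intro x y _ _ hx hy
    rw [map_add]; exact Submodule.add_mem _ hx hy
  · intro a x _ hx
    rw [res_smul]; exact Submodule.smul_mem _ _ hx

set_option maxHeartbeats 800000 in
/-- relations among generators of `M(E)` generate the relations over affine `V ⟶ E`. -/
theorem rel_res (h : AffSite J O.obj Aff)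
    (M : SheafOfModules.{max v₁ u₁}
      ((sheafCompose J (forget₂ CommRingCat.{max v₁ u₁} RingCat.{max v₁ u₁})).obj O))
    {E V : C} (g : V ⟶ E) (hE : Aff E) (hV : Aff V) (hBC : IsBC O.obj M.val g) {n p : ℕ}
    (s : Fin n → M.val.obj (op E)) (r : Fin p → Fin n → O.obj.obj (op E))
    (hr : Submodule.span (O.obj.obj (op E)) (Set.range r) =
      LinearMap.ker (Fintype.linearCombination (O.obj.obj (op E)) s))
    (c : Fin n → O.obj.obj (op V)) (hc : ∑ i, c i • res O.obj M.val g (s i) = 0) :
    ∃ d : Fin p → O.obj.obj (op V), ∀ i, c i = ∑ l, d l * O.obj.map g.op (r l i) := by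
  letI : Algebra (O.obj.obj (op E)) (O.obj.obj (op V)) := (O.obj.map g.op).hom.toAlgebra
  haveI : Module.Flat (O.obj.obj (op E)) (O.obj.obj (op V)) := h.flat g hE hV
  letI : Module (O.obj.obj (op E)) (M.val.obj (op V)) :=
    Module.compHom _ (algebraMap (O.obj.obj (op E)) (O.obj.obj (op V)))
  haveI : IsScalarTower (O.obj.obj (op E)) (O.obj.obj (op V)) (M.val.obj (op V)) :=
    ⟨fun x y z => by
      change (x • y) • z = algebraMap (O.obj.obj (op E)) (O.obj.obj (op V)) x • (y • z)
      rw [Algebra.smul_def, mul_smul]⟩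
  let ρ : M.val.obj (op E) →ₗ[O.obj.obj (op E)] M.val.obj (op V) :=
    { toFun := res O.obj M.val g
      map_add' := map_add _
      map_smul' := fun r m => res_smul O.obj M.val g r m }
  have hρ : IsBaseChange (O.obj.obj (op V)) ρ :=
    isBaseChange_of_isBC g hBC rfl ρ (fun m => rfl)
  have h1 := Groth.Agent.H9.FPres.mem_span_of_flat ρ hρ s c hc
  set φ : (Fin n → O.obj.obj (op E)) → (Fin n → O.obj.obj (op V)) :=
    fun a j => algebraMap (O.obj.obj (op E)) (O.obj.obj (op V)) (a j) with hφ
  have h2 : Submodule.span (O.obj.obj (op V)) (φ '' {a | ∑ j, a j • s j = 0}) ≤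
      Submodule.span (O.obj.obj (op V)) (Set.range fun l => φ (r l)) := by
    rw [Submodule.span_le]
    rintro _ ⟨a, ha, rfl⟩
    have ha' : a ∈ Submodule.span (O.obj.obj (op E)) (Set.range r) := by
      rw [hr, LinearMap.mem_ker, Fintype.linearCombination_apply]
      exact ha
    refine Submodule.span_induction (p := fun a _ => φ a ∈
      Submodule.span (O.obj.obj (op V)) (Set.range fun l => φ (r l))) ?_ ?_ ?_ ?_ ha'
    · rintro _ ⟨l, rfl⟩
      exact Submodule.subset_span ⟨l, rfl⟩
    · have h0 : φ 0 = 0 := by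
        ext j
        simp only [hφ, Pi.zero_apply, map_zero]
      rw [h0]
      exact Submodule.zero_mem _
    · intro x y _ _ hx hy
      have h0 : φ (x + y) = φ x + φ y := by
        ext j
        simp only [hφ, Pi.add_apply, map_add]
      rw [h0]
      exact Submodule.add_mem _ hx hy
    · intro b x _ hx
      have h0 : φ (b • x) = algebraMap (O.obj.obj (op E)) (O.obj.obj (op V)) b • φ x := by
        ext j
        simp only [hφ, Pi.smul_apply, smul_eq_mul, map_mul]
      rw [h0]
      exact Submodule.smul_mem _ _ hx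
  have h3 := h2 h1
  obtain ⟨d, hd⟩ := (Submodule.mem_span_range_iff_exists_fun (O.obj.obj (op V))).1 h3
  refine ⟨d, fun i => ?_⟩
  have h4 := congrFun hd i
  rw [← h4, Finset.sum_apply]
  refine Finset.sum_congr rfl (fun l _ => ?_)
  simp only [Pi.smul_apply, smul_eq_mul, hφ, RingHom.algebraMap_toAlgebra]

end Main

end Groth.Agent.H32.FP2
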