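import Groth.Agent.H32.FP.Main2

/-! helper32: a module on the small étale site with the base change property on affine objects and
finite modules of sections over affine objects is of finite type. -/

set_option autoImplicit false
set_option backward.isDefEq.respectTransparency false
universe u
open CategoryTheory Opposite Limits AlgebraicGeometry AlgSp

namespace Groth.Agent.H32.FP2

open Groth.Agent.H32.QCBC

variable {S : Scheme.{u}} (X : AlgSp.Sp S)

set_option maxHeartbeats 400000 in
theorem exists_gen (M : AlgSp.ModEt X)
    (hBC : ∀ {E V : EtOver X} (g : V ⟶ E), IsAffine E.obj.left.left → IsAffine V.obj.left.left →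
      IsBC (AlgSp.OEt X).obj M.val g)
    (E : EtOver X) (hE : IsAffine E.obj.left.left)
    (hfin : Module.Finite ((AlgSp.OEt X).obj.obj (op E)) (M.val.obj (op E))) :
    ∃ G : (M.over E).GeneratingSections, G.IsFiniteType := by
  obtain ⟨n, s, hs⟩ := Module.Finite.exists_fin (R := (AlgSp.OEt X).obj.obj (op E))
    (M := M.val.obj (op E))
  have hAS := affSite_etOver X
  have hepi : Epi ((M.over E).freeHomEquiv.symm (fun j : ULift.{u + 1} (Fin n) =>
      Groth.Agent.H96.FPres_Core.secOf (M.over E) Over.mkIdTerminal (s j.down))) := by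
    refine Groth.Agent.H96.FPres_Core.epi_of_locally_surjective
      (Groth.Agent.H96.FPres_Core.piOf (M.over E) Over.mkIdTerminal
        (fun j : ULift.{u + 1} (Fin n) => s j.down))
      (fun U t => Groth.Agent.H96.FPres_Core.piOf_locally_surjective (M.over E) Over.mkIdTerminal
        (fun Z => IsAffine Z.left.obj.left.left) (fun j : ULift.{u + 1} (Fin n) => s j.down)
        (Groth.Agent.H32.FP.hB_over X E) ?_ U t)
    intro Z z hZ y
    have hspan := span_res_eq_top (AlgSp.OEt X) hAS M z.left hE hZ (hBC z.left hE hZ) s hs
    have hy : (y : M.val.obj (op Z.left)) ∈ Submodule.span ((AlgSp.OEt X).obj.obj (op Z.left))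
        (Set.range fun i => res (AlgSp.OEt X).obj M.val z.left (s i)) := by
      rw [hspan]; trivial
    obtain ⟨c, hc⟩ := (Submodule.mem_span_range_iff_exists_fun _).1 hy
    refine ⟨fun j => c j.down, ?_⟩
    refine hc.symm.trans ?_
    exact (Equiv.sum_comp Equiv.ulift
      (fun i => c i • res (AlgSp.OEt X).obj M.val z.left (s i))).symm
  haveI : Finite (ULift.{u + 1} (Fin n)) := inferInstance
  exact ⟨{ I := ULift.{u + 1} (Fin n)
           s := fun j => Groth.Agent.H96.FPres_Core.secOf (M.over E) Over.mkIdTerminal (s j.down)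
           epi := hepi }, ⟨this⟩⟩

theorem isFiniteType_of_forall_affine_finite (M : AlgSp.ModEt X)
    (hBC : ∀ {E V : EtOver X} (g : V ⟶ E), IsAffine E.obj.left.left → IsAffine V.obj.left.left →
      IsBC (AlgSp.OEt X).obj M.val g)
    (h : ∀ (E : AlgSp.EtOver X), IsAffine E.obj.left.left →
      Module.Finite ((AlgSp.OEt X).obj.obj (op E)) (M.val.obj (op E))) :
    M.IsFiniteType := by
  have key : ∀ i : {E : AlgSp.EtOver X // IsAffine E.obj.left.left},
      ∃ G : (M.over i.1).GeneratingSections, G.IsFiniteType :=
    fun i => exists_gen X M hBC i.1 i.2 (h i.1 i.2)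
  choose G hG using key
  let σ : SheafOfModules.LocalGeneratorsData.{u + 1, u + 1, u, u + 1} M :=
    { I := {E : AlgSp.EtOver X // IsAffine E.obj.left.left}
      X := fun i => i.1
      coversTop := Groth.Agent.H94.FPres_COVTOP.coversTop_affine X
      generators := G }
  have hσ : σ.IsFiniteType := by
    constructor
    intro i
    exact hG i
  constructor
  exact ⟨σ, hσ⟩

end Groth.Agent.H32.FP2
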