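import Groth.Agent.H32.WAFin.FG2

/-! helper32: finiteness of sections descends along affine covers and transfers along maps of
affine objects (for modules with the base change property on affine objects). -/

set_option autoImplicit false
universe u v₁ u₁ w
open CategoryTheory Opposite Limits

namespace Groth.Agent.H32.WAFin2

open Groth.Agent.H32.QCBC

open Groth.Agent.H32.WAFin

section Main
variable {C : Type u₁} [Category.{v₁} C] {J : GrothendieckTopology C}
  (O : Sheaf J CommRingCat.{max v₁ u₁})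
  [J.HasSheafCompose (forget₂ CommRingCat.{max v₁ u₁} RingCat.{max v₁ u₁})]
  {Aff : C → Prop}

set_option maxHeartbeats 400000 in
theorem finite_of_cover (h : AffSite J O.obj Aff)
    (M : SheafOfModules.{max v₁ u₁}
      ((sheafCompose J (forget₂ CommRingCat.{max v₁ u₁} RingCat.{max v₁ u₁})).obj O))
    (hBC : ∀ {E V : C} (g : V ⟶ E), Aff E → Aff V → IsBC O.obj M.val g)
    {E : C} (hE : Aff E) (R : Sieve E) (hR : R ∈ J E)
    (hfin : ∀ ⦃V : C⦄ (g : V ⟶ E), R g → Aff V →
      Module.Finite (O.obj.obj (op V)) (M.val.obj (op V))) :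
    Module.Finite (O.obj.obj (op E)) (M.val.obj (op E)) := by
  obtain ⟨n, Y, f, hY, hS, hcov⟩ := h.qc E hE R hR
  letI : ∀ a, Algebra (O.obj.obj (op E)) (O.obj.obj (op (Y a))) :=
    fun a => (O.obj.map (f a).op).hom.toAlgebra
  haveI : ∀ a, Module.Flat (O.obj.obj (op E)) (O.obj.obj (op (Y a))) :=
    fun a => h.flat (f a) hE (hY a)
  letI : ∀ a, Module (O.obj.obj (op E)) (M.val.obj (op (Y a))) :=
    fun a => Module.compHom _ (algebraMap (O.obj.obj (op E)) (O.obj.obj (op (Y a))))
  haveI : ∀ a, IsScalarTower (O.obj.obj (op E)) (O.obj.obj (op (Y a))) (M.val.obj (op (Y a))) :=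
    fun a => ⟨fun x y z => by
      change (x • y) • z = algebraMap (O.obj.obj (op E)) (O.obj.obj (op (Y a))) x • (y • z)
      rw [Algebra.smul_def, mul_smul]⟩
  let ρ : ∀ a, M.val.obj (op E) →ₗ[O.obj.obj (op E)] M.val.obj (op (Y a)) := fun a =>
    { toFun := res O.obj M.val (f a)
      map_add' := map_add _
      map_smul' := fun r m => res_smul O.obj M.val (f a) r m }
  have hρ : ∀ a, IsBaseChange (O.obj.obj (op (Y a))) (ρ a) := fun a =>
    isBaseChange_of_isBC (f a) (hBC (f a) hE (hY a)) rfl (ρ a)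
      (fun m => rfl)
  refine Groth.Agent.H13.WAFin_FGDESC.finite_of_forall_finite_isBaseChange (fun a => O.obj.obj (op (Y a)))
    (h.surj E hE n Y f hY hcov) (fun a => M.val.obj (op (Y a))) ρ hρ ?_
  intro a
  exact hfin (f a) (hS a) (hY a)

set_option maxHeartbeats 400000 in
theorem finite_of_hom
    (M : SheafOfModules.{max v₁ u₁}
      ((sheafCompose J (forget₂ CommRingCat.{max v₁ u₁} RingCat.{max v₁ u₁})).obj O))
    {E V : C} (g : V ⟶ E) (hBC : IsBC O.obj M.val g)
    (hfin : Module.Finite (O.obj.obj (op E)) (M.val.obj (op E))) :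
    Module.Finite (O.obj.obj (op V)) (M.val.obj (op V)) := by
  letI : Algebra (O.obj.obj (op E)) (O.obj.obj (op V)) := (O.obj.map g.op).hom.toAlgebra
  letI : Module (O.obj.obj (op E)) (M.val.obj (op V)) :=
    Module.compHom _ (algebraMap (O.obj.obj (op E)) (O.obj.obj (op V)))
  haveI : IsScalarTower (O.obj.obj (op E)) (O.obj.obj (op V)) (M.val.obj (op V)) :=
    ⟨fun x y z => by
      change (x • y) • z = algebraMap (O.obj.obj (op E)) (O.obj.obj (op V)) x • (y • z)
      rw [Algebra.smul_def, mul_smul]⟩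
  let ρ : M.val.obj (op E) →ₗ[O.obj.obj (op E)] M.val.obj (op V) :=
    { toFun := res O.obj M.val g
      map_add' := map_add _
      map_smul' := fun r m => res_smul O.obj M.val g r m }
  have hρ : IsBaseChange (O.obj.obj (op V)) ρ :=
    isBaseChange_of_isBC g hBC rfl ρ (fun m => rfl)
  haveI := hfin
  exact Module.Finite.equiv hρ.equiv

end Main

end Groth.Agent.H32.WAFin2
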