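import Groth.Agent.H32.FP.Chart
import Groth.Agent.H32.QCBC.EtSiteMain
import Groth.Agent.H96.FPres_Core
import Groth.Agent.H94.FPres_COVTOP
import Groth.Agent.H37.WAFin_NOETH

/-! helper32: a quasi-coherent module on the small étale site of a locally Noetherian space whose
sections over affine objects are finite modules is of finite presentation. -/

set_option autoImplicit false
set_option backward.isDefEq.respectTransparency false
universe u
open CategoryTheory Opposite Limits AlgebraicGeometry AlgSp

namespace Groth.Agent.H32.FP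

open Groth.Agent.H32.QCBC

variable {S : Scheme.{u}} (X : AlgSp.Sp S)

/-- every object of the slice site is covered by affine objects. -/
theorem hB_over (E : EtOver X) (Y : Over E) :
    ∃ T ∈ ((etTop X).over E) Y, ∀ ⦃Y' : Over E⦄ (f : Y' ⟶ Y), T f →
      ∃ (Z : Over E) (a : Y' ⟶ Z) (b : Z ⟶ Y), a ≫ b = f ∧ IsAffine Z.left.obj.left.left := by
  let T₀ : Sieve Y.left := Sieve.ofArrows
    (fun W : Y.left.obj.left.left.affineOpens => openObj Y.left W.1)
    (fun W => openObjι Y.left W.1)
  have hT₀ : T₀ ∈ etTop X Y.left := by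
    apply ofArrows_mem_etTop
    intro x
    obtain ⟨W, hW, hxW, -⟩ :=
      (TopologicalSpace.Opens.isBasis_iff_nbhd.1 Y.left.obj.left.left.isBasis_affineOpens)
        (show x ∈ (⊤ : Y.left.obj.left.left.Opens) from trivial)
    refine ⟨⟨W, hW⟩, ⟨⟨x, hxW⟩, rfl⟩⟩
  refine ⟨(Sieve.overEquiv Y).symm T₀, ?_, ?_⟩
  · rw [GrothendieckTopology.mem_over_iff]
    exact (OrderIso.apply_symm_apply (Sieve.overEquiv Y) T₀).symm ▸ hT₀
  · intro Y' f hf
    rw [Sieve.overEquiv_symm_iff] at hf
    obtain ⟨W, g, hgq⟩ := (Sieve.mem_ofArrows_iff _ _ _).1 hf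
    refine ⟨Over.mk (openObjι Y.left W.1 ≫ Y.hom), Over.homMk g ?_,
      Over.homMk (openObjι Y.left W.1) rfl, ?_, W.2⟩
    · change g ≫ openObjι Y.left W.1 ≫ Y.hom = Y'.hom
      rw [← Category.assoc, ← hgq, Over.w f]
    · exact Over.OverMorphism.ext hgq.symm

set_option maxHeartbeats 1600000 in
theorem exists_pres (hX : AlgSp.IsLocNoethSp X) (M : AlgSp.ModEt X) [M.IsQuasicoherent]
    (E : EtOver X) (hE : IsAffine E.obj.left.left)
    (hfin : Module.Finite ((AlgSp.OEt X).obj.obj (op E)) (M.val.obj (op E))) :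
    ∃ P : (M.over E).Presentation, P.IsFinite := by
  haveI hN := Groth.Agent.H37.WAFin_NOETH.isNoetherianRing_of_isLocNoethSp X hX E
  haveI : IsNoetherianRing ((AlgSp.OEt X).obj.obj (op E)) :=
    isNoetherianRing_of_ringEquiv Γ(E.obj.left.left, ⊤)
      (ULift.ringEquiv (R := Γ(E.obj.left.left, ⊤))).symm
  obtain ⟨n, s, hs⟩ := Module.Finite.exists_fin (R := (AlgSp.OEt X).obj.obj (op E))
    (M := M.val.obj (op E))
  have hK : (LinearMap.ker (Fintype.linearCombination ((AlgSp.OEt X).obj.obj (op E)) s)).FG :=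
    IsNoetherian.noetherian _
  obtain ⟨p, r, hr⟩ := Submodule.fg_iff_exists_fin_generating_family.1 hK
  have hAS := affSite_etOver X
  refine Groth.Agent.H96.FPres_Core.exists_presentation (M.over E) Over.mkIdTerminal
    (fun Z => IsAffine Z.left.obj.left.left) (hB_over X E)
    (ι := ULift.{u + 1} (Fin n)) (κ := ULift.{u + 1} (Fin p))
    (fun j => s j.down) (fun l j => r l.down j.down) ?_ ?_ ?_
  · intro l
    have hl : r l.down ∈ LinearMap.ker
        (Fintype.linearCombination ((AlgSp.OEt X).obj.obj (op E)) s) := by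
      rw [← hr]; exact Submodule.subset_span ⟨l.down, rfl⟩
    rw [LinearMap.mem_ker, Fintype.linearCombination_apply] at hl
    rw [← hl]
    exact Equiv.sum_comp Equiv.ulift (fun i => r l.down i • s i)
  · intro Z z hZ y
    have hspan := span_res_eq_top (AlgSp.OEt X) hAS M z.left hE hZ s hs
    have hy : (y : M.val.obj (op Z.left)) ∈ Submodule.span ((AlgSp.OEt X).obj.obj (op Z.left))
        (Set.range fun i => res (AlgSp.OEt X).obj M.val z.left (s i)) := by
      rw [hspan]; trivial
    obtain ⟨c, hc⟩ := (Submodule.mem_span_range_iff_exists_fun _).1 hy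
    refine ⟨fun j => c j.down, ?_⟩
    refine hc.symm.trans ?_
    exact (Equiv.sum_comp Equiv.ulift
      (fun i => c i • res (AlgSp.OEt X).obj M.val z.left (s i))).symm
  · intro Z z hZ c hc
    have hc' : ∑ i, c (ULift.up i) • res (AlgSp.OEt X).obj M.val z.left (s i) = 0 := by
      refine Eq.trans ?_ hc
      exact (Equiv.sum_comp Equiv.ulift
        (fun i => c (ULift.up i) • res (AlgSp.OEt X).obj M.val z.left (s i))).symm
    obtain ⟨d, hd⟩ := rel_res (AlgSp.OEt X) hAS M z.left hE hZ s r hr (fun i => c (ULift.up i)) hc'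
    refine ⟨fun l => d l.down, fun j => ?_⟩
    refine (hd j.down).trans ?_
    exact (Equiv.sum_comp Equiv.ulift
      (fun l => d l * (AlgSp.OEt X).obj.map z.left.op (r l j.down))).symm

theorem isFinitePresentation_of_forall_affine_finite (hX : AlgSp.IsLocNoethSp X)
    (M : AlgSp.ModEt X) [M.IsQuasicoherent]
    (h : ∀ (E : AlgSp.EtOver X), IsAffine E.obj.left.left →
      Module.Finite ((AlgSp.OEt X).obj.obj (op E)) (M.val.obj (op E))) :
    M.IsFinitePresentation := by
  have key : ∀ i : {E : AlgSp.EtOver X // IsAffine E.obj.left.left},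
      ∃ P : (M.over i.1).Presentation, P.IsFinite :=
    fun i => exists_pres X hX M i.1 i.2 (h i.1 i.2)
  choose P hP using key
  let σ : SheafOfModules.QuasicoherentData.{u + 1, u + 1, u, u + 1} M :=
    { I := {E : AlgSp.EtOver X // IsAffine E.obj.left.left}
      X := fun i => i.1
      coversTop := Groth.Agent.H94.FPres_COVTOP.coversTop_affine X
      presentation := P }
  have hσ : σ.IsFinitePresentation := by
    constructor
    intro i
    exact hP i
  constructor
  exact ⟨σ, hσ⟩

end Groth.Agent.H32.FP
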