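import Groth.Agent.H32.QCBC.Main
import Groth.Agent.H32.QCBC.BCConv
import Groth.Agent.H32.QCBC.Global
import Groth.Agent.H75.QCBC_ALG4
import Groth.Agent.H25.WeakAssPush
import Groth.Agent.H26.QCBC_UL

/-! helper32: base change property for the sections of a direct image `f_* M` (affine `f`). -/

set_option autoImplicit false
set_option backward.isDefEq.respectTransparency false
universe u
open CategoryTheory Opposite Limits AlgebraicGeometry AlgSp

namespace Groth.Agent.H32.FP

open Groth.Agent.H32.QCBC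

variable {S : Scheme.{u}} {X Y : AlgSp.Sp S} {f : X ⟶ Y} (hf : AlgSp.Representable f)

/-- the ring map `O_Y(E) ⟶ O_X(E ×_Y X)`. -/
noncomputable def bcR (E : EtOver Y) :
    (OEt Y).obj.obj (op E) →+* (OEt X).obj.obj (op ((EtOver.bc hf).obj E)) :=
  ((bcRingHom hf).hom.app (op E)).hom

/-- sections of the direct image. -/
def toBC (M : AlgSp.ModEt X) (E : EtOver Y) (m : ((pushModEt hf).obj M).val.obj (op E)) :
    M.val.obj (op ((EtOver.bc hf).obj E)) := m

theorem toBC_smul (M : AlgSp.ModEt X) (E : EtOver Y) (a : (OEt Y).obj.obj (op E))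
    (m : ((pushModEt hf).obj M).val.obj (op E)) :
    toBC hf M E (a • m) = bcR hf E a • toBC hf M E m := rfl

theorem bcR_naturality {E V : EtOver Y} (g : V ⟶ E) (a : (OEt Y).obj.obj (op E)) :
    bcR hf V ((OEt Y).obj.map g.op a) =
      (OEt X).obj.map ((EtOver.bc hf).map g).op (bcR hf E a) := by
  have h := (bcRingHom hf).hom.naturality g.op
  exact congrArg (fun φ => φ.hom a) h

set_option maxHeartbeats 3200000 in
theorem isBC_push (haff : IsAffineMor f) (M : AlgSp.ModEt X) [M.IsQuasicoherent]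
    {E V : EtOver Y} (g : V ⟶ E) (hE : IsAffine E.obj.left.left) (hV : IsAffine V.obj.left.left) :
    IsBC (OEt Y).obj ((pushModEt hf).obj M).val g := by
  have hbE : IsAffine ((EtOver.bc hf).obj E).obj.left.left :=
    Groth.Agent.H25.WeakAssPush.isAffine_bc hf haff E hE
  have hbV : IsAffine ((EtOver.bc hf).obj V).obj.left.left :=
    Groth.Agent.H25.WeakAssPush.isAffine_bc hf haff V hV
  letI algAA' : Algebra ((OEt Y).obj.obj (op E)) ((OEt Y).obj.obj (op V)) :=
    ((OEt Y).obj.map g.op).hom.toAlgebra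
  letI algAB : Algebra ((OEt Y).obj.obj (op E)) ((OEt X).obj.obj (op ((EtOver.bc hf).obj E))) :=
    (bcR hf E).toAlgebra
  letI algA'B' : Algebra ((OEt Y).obj.obj (op V)) ((OEt X).obj.obj (op ((EtOver.bc hf).obj V))) :=
    (bcR hf V).toAlgebra
  letI algBB' : Algebra ((OEt X).obj.obj (op ((EtOver.bc hf).obj E)))
      ((OEt X).obj.obj (op ((EtOver.bc hf).obj V))) :=
    ((OEt X).obj.map ((EtOver.bc hf).map g).op).hom.toAlgebra
  letI algAB' : Algebra ((OEt Y).obj.obj (op E)) ((OEt X).obj.obj (op ((EtOver.bc hf).obj V))) :=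
    (((OEt X).obj.map ((EtOver.bc hf).map g).op).hom.comp (bcR hf E)).toAlgebra
  haveI st1 : IsScalarTower ((OEt Y).obj.obj (op E)) ((OEt X).obj.obj (op ((EtOver.bc hf).obj E)))
      ((OEt X).obj.obj (op ((EtOver.bc hf).obj V))) := IsScalarTower.of_algebraMap_eq (fun _ => rfl)
  haveI st2 : IsScalarTower ((OEt Y).obj.obj (op E)) ((OEt Y).obj.obj (op V))
      ((OEt X).obj.obj (op ((EtOver.bc hf).obj V))) :=
    IsScalarTower.of_algebraMap_eq (fun a => (bcR_naturality hf g a).symm)
  haveI : IsAffine (EtOver.bcObj hf E).obj.left.left := hbE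
  haveI : IsAffine (EtOver.bcObj hf V).obj.left.left := hbV
  haveI := hE
  haveI := hV
  have hsch := EtOver.isPullback_bcMap_left hf g
  have hpo0 := isPushout_appTop_of_isPullback hsch
  have hpo1 := Groth.Agent.H26.QCBC_UL.isPushout_ulift.{u, u + 1} _ _ _ _ hpo0
  haveI hPO : Algebra.IsPushout ((OEt Y).obj.obj (op E)) ((OEt Y).obj.obj (op V))
      ((OEt X).obj.obj (op ((EtOver.bc hf).obj E))) ((OEt X).obj.obj (op ((EtOver.bc hf).obj V))) :=
    CommRingCat.isPushout_iff_isPushout.1 hpo1.flip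
  -- modules
  letI mAN : Module ((OEt Y).obj.obj (op E)) (M.val.obj (op ((EtOver.bc hf).obj E))) :=
    Module.compHom _ (algebraMap ((OEt Y).obj.obj (op E))
      ((OEt X).obj.obj (op ((EtOver.bc hf).obj E))))
  haveI : IsScalarTower ((OEt Y).obj.obj (op E)) ((OEt X).obj.obj (op ((EtOver.bc hf).obj E)))
      (M.val.obj (op ((EtOver.bc hf).obj E))) := IsScalarTower.of_algebraMap_smul (fun _ _ => rfl)
  letI mAN' : Module ((OEt Y).obj.obj (op E)) (M.val.obj (op ((EtOver.bc hf).obj V))) :=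
    Module.compHom _ (algebraMap ((OEt Y).obj.obj (op E))
      ((OEt X).obj.obj (op ((EtOver.bc hf).obj V))))
  letI mA'N' : Module ((OEt Y).obj.obj (op V)) (M.val.obj (op ((EtOver.bc hf).obj V))) :=
    Module.compHom _ (algebraMap ((OEt Y).obj.obj (op V))
      ((OEt X).obj.obj (op ((EtOver.bc hf).obj V))))
  letI mBN' : Module ((OEt X).obj.obj (op ((EtOver.bc hf).obj E)))
      (M.val.obj (op ((EtOver.bc hf).obj V))) :=
    Module.compHom _ (algebraMap ((OEt X).obj.obj (op ((EtOver.bc hf).obj E)))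
      ((OEt X).obj.obj (op ((EtOver.bc hf).obj V))))
  haveI : IsScalarTower ((OEt Y).obj.obj (op E)) ((OEt X).obj.obj (op ((EtOver.bc hf).obj V)))
      (M.val.obj (op ((EtOver.bc hf).obj V))) := IsScalarTower.of_algebraMap_smul (fun _ _ => rfl)
  haveI : IsScalarTower ((OEt Y).obj.obj (op V)) ((OEt X).obj.obj (op ((EtOver.bc hf).obj V)))
      (M.val.obj (op ((EtOver.bc hf).obj V))) := IsScalarTower.of_algebraMap_smul (fun _ _ => rfl)
  haveI : IsScalarTower ((OEt X).obj.obj (op ((EtOver.bc hf).obj E)))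
      ((OEt X).obj.obj (op ((EtOver.bc hf).obj V)))
      (M.val.obj (op ((EtOver.bc hf).obj V))) := IsScalarTower.of_algebraMap_smul (fun _ _ => rfl)
  haveI : IsScalarTower ((OEt Y).obj.obj (op E)) ((OEt Y).obj.obj (op V))
      (M.val.obj (op ((EtOver.bc hf).obj V))) := IsScalarTower.of_algebraMap_smul (fun a n => by
        change algebraMap _ ((OEt X).obj.obj (op ((EtOver.bc hf).obj V)))
          (algebraMap ((OEt Y).obj.obj (op E)) ((OEt Y).obj.obj (op V)) a) • n =
          algebraMap ((OEt Y).obj.obj (op E)) ((OEt X).obj.obj (op ((EtOver.bc hf).obj V))) a • n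
        rw [← IsScalarTower.algebraMap_apply])
  haveI : IsScalarTower ((OEt Y).obj.obj (op E)) ((OEt X).obj.obj (op ((EtOver.bc hf).obj E)))
      (M.val.obj (op ((EtOver.bc hf).obj V))) := IsScalarTower.of_algebraMap_smul (fun a n => by
        change algebraMap _ ((OEt X).obj.obj (op ((EtOver.bc hf).obj V)))
          (algebraMap ((OEt Y).obj.obj (op E)) ((OEt X).obj.obj (op ((EtOver.bc hf).obj E))) a) • n =
          algebraMap ((OEt Y).obj.obj (op E)) ((OEt X).obj.obj (op ((EtOver.bc hf).obj V))) a • n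
        rw [← IsScalarTower.algebraMap_apply])
  let ρ : M.val.obj (op ((EtOver.bc hf).obj E))
      →ₗ[(OEt X).obj.obj (op ((EtOver.bc hf).obj E))] M.val.obj (op ((EtOver.bc hf).obj V)) :=
    { toFun := res (OEt X).obj M.val ((EtOver.bc hf).map g)
      map_add' := map_add _
      map_smul' := fun r m => res_smul (OEt X).obj M.val ((EtOver.bc hf).map g) r m }
  have hρ : IsBaseChange ((OEt X).obj.obj (op ((EtOver.bc hf).obj V))) ρ :=
    isBaseChange_of_isBC ((EtOver.bc hf).map g) (isBC_modEt X M ((EtOver.bc hf).map g) hbE hbV)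
      rfl ρ (fun m => rfl)
  have hρ' := Groth.Agent.H75.QCBC_ALG4.isBaseChange_of_isPushout
    (A := (OEt Y).obj.obj (op E)) (A' := (OEt Y).obj.obj (op V)) ρ hρ
  intro Q _ _ ψ hψ
  letI : Module ((OEt Y).obj.obj (op E)) Q :=
    Module.compHom Q (algebraMap ((OEt Y).obj.obj (op E)) ((OEt Y).obj.obj (op V)))
  haveI : IsScalarTower ((OEt Y).obj.obj (op E)) ((OEt Y).obj.obj (op V)) Q :=
    IsScalarTower.of_algebraMap_smul (fun _ _ => rfl)
  let ψL : M.val.obj (op ((EtOver.bc hf).obj E)) →ₗ[(OEt Y).obj.obj (op E)] Q :=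
    { toFun := ψ
      map_add' := map_add ψ
      map_smul' := fun a s => hψ a s }
  let lft : ((pushModEt hf).obj M).val.obj (op V) →ₗ[(OEt Y).obj.obj (op V)] Q := hρ'.lift ψL
  refine ⟨lft, fun s => ?_, fun ψ'' hψ'' => ?_⟩
  · exact hρ'.lift_eq ψL s
  · have h1 : (show M.val.obj (op ((EtOver.bc hf).obj V)) →ₗ[(OEt Y).obj.obj (op V)] Q from ψ'') =
        hρ'.lift ψL := by
      refine hρ'.algHom_ext _ _ (fun s => ?_)
      rw [hρ'.lift_eq]
      exact hψ'' s
    exact h1

end Groth.Agent.H32.FP
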