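import Groth.Agent.H32.QCBC.EtSite
import Groth.Agent.H52.Topology

/-! helper32: a quasi-compact sheaf `X` has a finite family of affine objects of its small étale
site such that every object is covered by affine objects mapping to a member of the family. -/

set_option autoImplicit false
set_option backward.isDefEq.respectTransparency false
universe u
open CategoryTheory Opposite Limits AlgebraicGeometry AlgSp

namespace Groth.Agent.H32.FP

open Groth.Agent.H32.QCBC

variable {S : Scheme.{u}}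

theorem exists_finite_affine_cover (X : AlgSp.Sp S) (hqc : AlgSp.IsQuasiCompactSp X) :
    ∃ (r : ℕ) (E : Fin r → AlgSp.EtOver X), (∀ j, IsAffine (E j).obj.left.left) ∧
      ∀ V : AlgSp.EtOver X, ∃ T ∈ AlgSp.etTop X V, ∀ ⦃V' : AlgSp.EtOver X⦄ (f : V' ⟶ V), T f →
        ∃ (Z : AlgSp.EtOver X) (a : V' ⟶ Z) (b : Z ⟶ V), a ≫ b = f ∧ IsAffine Z.obj.left.left ∧
          ∃ j : Fin r, Nonempty (Z ⟶ E j) := by
  obtain ⟨U, p, hpe, hps, hUc⟩ := hqc
  let E₀ : EtOver X := EtOver.mk p hpe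
  -- finite affine open cover of `U`
  have hcovU : (Set.univ : Set ↥U.left) ⊆ ⋃ W : U.left.affineOpens, (W.1 : Set ↥U.left) := by
    intro x _
    obtain ⟨W, hW, hxW, -⟩ :=
      (TopologicalSpace.Opens.isBasis_iff_nbhd.1 U.left.isBasis_affineOpens)
        (show x ∈ (⊤ : U.left.Opens) from trivial)
    exact Set.mem_iUnion.2 ⟨⟨W, hW⟩, hxW⟩
  obtain ⟨t, ht⟩ := isCompact_univ.elim_finite_subcover
    (fun W : U.left.affineOpens => (W.1 : Set ↥U.left)) (fun W => W.1.isOpen) hcovU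
  let e := t.equivFin
  let Wj : Fin t.card → U.left.affineOpens := fun j => (e.symm j).1
  have hWj : ∀ u : ↥U.left, ∃ j, u ∈ (Wj j).1 := by
    intro u
    have hu := ht (Set.mem_univ u)
    rw [Set.mem_iUnion₂] at hu
    obtain ⟨W, hWt, huW⟩ := hu
    refine ⟨e ⟨W, hWt⟩, ?_⟩
    change u ∈ ((e.symm (e ⟨W, hWt⟩)).1).1
    rw [Equiv.symm_apply_apply]
    exact huW
  let E : Fin t.card → EtOver X := fun j => openObj E₀ (Wj j).1
  have hE : ∀ j, IsAffine (E j).obj.left.left := fun j => (Wj j).2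
  refine ⟨t.card, E, hE, fun V => ?_⟩
  let ι := Σ j : Fin t.card, (EtOver.prodObj V (E j)).obj.left.left.affineOpens
  let Y : ι → EtOver X := fun i => openObj (EtOver.prodObj V (E i.1)) i.2.1
  let g : ∀ i : ι, Y i ⟶ V := fun i =>
    openObjι (EtOver.prodObj V (E i.1)) i.2.1 ≫ EtOver.prodFst V (E i.1)
  refine ⟨Sieve.ofArrows Y g, ?_, ?_⟩
  · apply ofArrows_mem_etTop
    intro v
    obtain ⟨u, hu⟩ := Groth.Agent.H52.surjective_ofPt_of_surjective p hps
      (Points.ofPt V.obj.hom v)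
    obtain ⟨j, huj⟩ := hWj u
    let u' : ↥(E j).obj.left.left := (⟨u, huj⟩ : (Wj j).1)
    have hu' : Points.ofPt (E j).obj.hom u' = Points.ofPt V.obj.hom v := by
      change Points.ofPt ((yon S).map _ ≫ p) u' = _
      rw [Groth.Agent.H52.ofPt_yon_map_comp]
      exact hu
    have hsq : IsPullback ((yon S).map ((E j).property.1.fst' V.obj.hom))
        ((yon S).map ((E j).property.1.snd V.obj.hom)) (E j).obj.hom V.obj.hom := by
      rw [Functor.relativelyRepresentable.map_fst']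
      exact (E j).property.1.isPullback V.obj.hom
    obtain ⟨z, hz1, hz2⟩ := Groth.Agent.H52.exists_of_ofPt_eq_ofPt hsq u' v hu'
    obtain ⟨O, hO, hzO, -⟩ :=
      (TopologicalSpace.Opens.isBasis_iff_nbhd.1
        (EtOver.prodObj V (E j)).obj.left.left.isBasis_affineOpens)
        (show (z : ↥(EtOver.prodObj V (E j)).obj.left.left) ∈
          (⊤ : (EtOver.prodObj V (E j)).obj.left.left.Opens) from trivial)
    refine ⟨⟨j, ⟨O, hO⟩⟩, ⟨(⟨z, hzO⟩ : O), ?_⟩⟩
    exact hz2
  · intro V' f hf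
    obtain ⟨i, a, hfa⟩ := (Sieve.mem_ofArrows_iff _ _ _).1 hf
    exact ⟨Y i, a, g i, hfa.symm, i.2.2, i.1,
      ⟨openObjι (EtOver.prodObj V (E i.1)) i.2.1 ≫ EtOver.prodSnd V (E i.1)⟩⟩

end Groth.Agent.H32.FP
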